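import Cfsg.Agent.H820.JM.TyCount
import Cfsg.Agent.H111.JM.EnvD
import Cfsg.Agent.H337.JankoOfIso
import Cfsg.Agent.KFacts.MulSpor.NoDbl

/-!
# `|T_y| ≤ 10296` in `J4` (helper820, S5580)
-/

set_option autoImplicit false

open Cfsg

namespace Cfsg.Agent.H820.JM

open Cfsg.Agent.H878.JM.Base (y0 y0_cube y0_ne)

theorem simpleJ4 : IsSimpleGroup Cfsg.Spor.J4 := Cfsg.Agent.J4.Final.isSimple_card.1

theorem cardJ4 : Nat.card Cfsg.Spor.J4 = 86775571046077562880 := Cfsg.Agent.J4.Final.card_J4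

instance finiteJ4' : Finite Cfsg.Spor.J4 := Nat.finite_of_card_ne_zero (by rw [cardJ4]; norm_num)

theorem nonabJ4 : ¬ IsMulCommutative Cfsg.Spor.J4 := by
  intro h
  have hs := simpleJ4
  have hc : ∀ a b : Cfsg.Spor.J4, a * b = b * a := fun a b => h.is_comm.comm a b
  have h1 : Subgroup.zpowers y0 = ⊤ := by
    have hn : (Subgroup.zpowers y0).Normal := ⟨fun a ha b => by rw [hc b a, mul_inv_cancel_right]; exact ha⟩
    rcases hs.eq_bot_or_eq_top_of_normal _ hn with h2 | h2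
    · exact absurd (Subgroup.zpowers_eq_bot.1 h2) y0_ne
    · exact h2
  have h2 : Nat.card (Subgroup.zpowers y0) = Nat.card Cfsg.Spor.J4 := by
    rw [h1, Subgroup.card_top]
  have h3 : y0 ^ 3 = 1 := by
    rw [pow_succ, pow_two, mul_assoc]; exact y0_cube
  have h4 : orderOf y0 ≤ 3 := orderOf_le_of_pow_eq_one (by norm_num) h3
  rw [Nat.card_zpowers, cardJ4] at h2
  omega

theorem order_y0 : orderOf y0 = 3 := by
  refine orderOf_eq_prime ?_ y0_ne
  rw [pow_succ, pow_two, mul_assoc]; exact y0_cube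

/-- **(E1)** of S5580 -/
theorem card_TY : Nat.card {t : Cfsg.Spor.J4 // Cfsg.Agent.H111.JM.Env.TY t} ≤ 10296 := by
  have hs := simpleJ4
  have hJ : IsOfJankoFourType Cfsg.Spor.J4 := H337.isOfJankoFourType_of_isoJ4 ⟨MulEquiv.refl _⟩
  have h := ncard_invert_le nonabJ4 hJ order_y0
  rwa [← Nat.card_coe_set_eq] at h

end Cfsg.Agent.H820.JM
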