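import Cfsg.Agent.Blocks.Induced
import Cfsg.Agent.H866.InvolType
import Cfsg.Agent.KFacts.M24Two.Orders
import Cfsg.Agent.SporadicA.M24Trans

/-!
# The involutions of `M24` which swap two given points (helper820, S5580)

`ncard_swap` : there are at most `1716 = 330 + 1386` involutions of `M24` mapping `none` to `some 0`
(double counting with the two classes of involutions, `11385 * 16 + 31878 * 24 = 24 * 23 * 1716`).
-/

set_option autoImplicit false

open Cfsg

namespace Cfsg.Agent.H820.JM

open Cfsg.Agent.H866.InvolType Cfsg.Agent.J4.M24InvolData Cfsg.Agent.J4.M24Invol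
open Cfsg.Agent.SporadicStructure.M24El
open Cfsg.Agent.KFacts.M24Two.Count (z w)

/-- the elements of order at most two mapping `a` to `b` -/
def Swp (a b : GolayPt) : Set M24 := {u | u * u = 1 ∧ u • a = b}

theorem ncard_Swp_smul (g : M24) (a b : GolayPt) : (Swp (g • a) (g • b)).ncard = (Swp a b).ncard := by
  symm
  refine Set.ncard_congr (fun u _ => g * u * g⁻¹) ?_ ?_ ?_
  · rintro u ⟨h1, h2⟩
    refine ⟨?_, ?_⟩
    · calc g * u * g⁻¹ * (g * u * g⁻¹) = g * (u * u) * g⁻¹ := by group
        _ = 1 := by rw [h1]; group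
    · rw [mul_smul, inv_smul_smul, mul_smul, h2]
  · intro u v _ _ h
    exact mul_left_cancel (mul_right_cancel h)
  · rintro u ⟨h1, h2⟩
    refine ⟨g⁻¹ * u * g, ⟨?_, ?_⟩, by group⟩
    · calc g⁻¹ * u * g * (g⁻¹ * u * g) = g⁻¹ * (u * u) * g := by group
        _ = 1 := by rw [h1]; group
    · rw [mul_smul, mul_smul, h2, inv_smul_smul]

theorem two_transitive {a b : GolayPt} (h : a ≠ b) : ∃ g : M24, g • (none : GolayPt) = a ∧ g • (some 0 : GolayPt) = b := by
  have h5 : MulAction.IsMultiplyPretransitive M24 GolayPt 5 := Cfsg.Agent.SporadicA.M24Trans.five_transitive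
  have hc : Nat.card GolayPt = 24 := by
    rw [Nat.card_eq_fintype_card]; decide
  have h2 : MulAction.IsMultiplyPretransitive M24 GolayPt 2 :=
    MulAction.isMultiplyPretransitive_of_le (n := 5) (by norm_num) (by
      rw [hc]; norm_num)
  exact (MulAction.is_two_pretransitive_iff.1 h2) (by decide) h

theorem ncard_Swp {a b : GolayPt} (h : a ≠ b) : (Swp a b).ncard = (Swp none (some 0)).ncard := by
  obtain ⟨g, h1, h2⟩ := two_transitive h
  rw [← h1, ← h2, ncard_Swp_smul]

theorem ncard_z : {u : M24 | IsConj z u}.ncard = 11385 := by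
  rw [Cfsg.Agent.Blocks.Induced.ncard_conj_eq_index]
  have h := (Subgroup.centralizer ({z} : Set M24)).card_mul_index
  rw [Cfsg.Agent.KFacts.M24Two.Orders.card_centralizer_z, Cfsg.Agent.SporadicA.M24Trans.card_M24] at h
  omega

theorem ncard_w : {u : M24 | IsConj w u}.ncard = 31878 := by
  rw [Cfsg.Agent.Blocks.Induced.ncard_conj_eq_index]
  have h := (Subgroup.centralizer ({w} : Set M24)).card_mul_index
  rw [Cfsg.Agent.KFacts.M24Two.Orders.card_centralizer_w, Cfsg.Agent.SporadicA.M24Trans.card_M24] at h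
  omega

theorem kinds (u : M24) (h2 : u * u = 1) (h1 : u ≠ 1) :
    (IsConj z u ∧ fx (u : Equiv.Perm GolayPt) = 8) ∨ (IsConj w u ∧ fx (u : Equiv.Perm GolayPt) = 0) := by
  have ho : orderOf (u : Equiv.Perm GolayPt) = 2 := by
    refine orderOf_eq_prime ?_ (fun h => h1 (Subtype.ext h))
    rw [pow_two]
    exact congrArg Subtype.val h2
  obtain ⟨h, hh, ⟨e, e0⟩ | ⟨e, e0⟩⟩ := invol_type u.2 ho
  · left
    refine ⟨?_, e0⟩
    refine (isConj_iff.2 ⟨⟨h, hh⟩, Subtype.ext ?_⟩ : IsConj u z).symm
    show h * (u : Equiv.Perm GolayPt) * h⁻¹ = (el P1 : Equiv.Perm GolayPt)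
    rw [e, coe_el_P1]
  · right
    refine ⟨?_, e0⟩
    refine (isConj_iff.2 ⟨⟨h, hh⟩, Subtype.ext ?_⟩ : IsConj u w).symm
    show h * (u : Equiv.Perm GolayPt) * h⁻¹ = (el P2 : Equiv.Perm GolayPt)
    rw [e, coe_el_P2]

theorem ncard_swap : (Swp none (some 0)).ncard ≤ 1716 := by
  classical
  have hfin : Fintype M24 := Fintype.ofFinite _
  let I : Finset M24 := Finset.univ.filter fun u => u * u = 1
  let O : Finset (GolayPt × GolayPt) := (Finset.univ : Finset GolayPt).offDiag
  have hO : O.card = 552 := by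
    show ((Finset.univ : Finset GolayPt).offDiag).card = 552
    rw [Finset.offDiag_card, Finset.card_univ]
    decide
  have hb := Finset.sum_card_bipartiteAbove_eq_sum_card_bipartiteBelow
    (s := I) (t := O) (fun (u : M24) (p : GolayPt × GolayPt) => u • p.1 = p.2)
  have h1 : ∀ p ∈ O, (Finset.bipartiteBelow (fun (u : M24) (p : GolayPt × GolayPt) => u • p.1 = p.2) I p).card =
      (Swp none (some 0)).ncard := by
    rintro ⟨a, b⟩ hp
    have hab : a ≠ b := (Finset.mem_offDiag.1 hp).2.2
    rw [← ncard_Swp hab, ← Set.ncard_coe_finset]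
    congr 1
    ext u
    simp [Finset.bipartiteBelow, I, Swp]
  rw [Finset.sum_congr rfl h1, Finset.sum_const, hO, smul_eq_mul] at hb
  have h2 : ∀ u ∈ I, (Finset.bipartiteAbove (fun (u : M24) (p : GolayPt × GolayPt) => u • p.1 = p.2) O u).card ≤
      (if IsConj z u then 16 else 0) + (if IsConj w u then 24 else 0) := by
    intro u hu
    have hu2 : u * u = 1 := (Finset.mem_filter.1 hu).2
    have h3 : (Finset.bipartiteAbove (fun (u : M24) (p : GolayPt × GolayPt) => u • p.1 = p.2) O u).card =
        (Finset.univ.filter fun p : GolayPt => ¬ (u : Equiv.Perm GolayPt) p = p).card := by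
      refine Finset.card_bij (fun p _ => p.1) ?_ ?_ ?_
      · rintro ⟨a, b⟩ hp
        rw [Finset.mem_bipartiteAbove] at hp
        refine Finset.mem_filter.2 ⟨Finset.mem_univ _, fun h => ?_⟩
        have h4 : u • a = b := hp.2
        exact (Finset.mem_offDiag.1 hp.1).2.2 (h.symm.trans h4)
      · rintro ⟨a, b⟩ hp ⟨c, d⟩ hq h
        rw [Finset.mem_bipartiteAbove] at hp hq
        have h4 : u • a = b := hp.2
        have h5 : u • c = d := hq.2
        have h6 : a = c := h
        rw [Prod.mk.injEq, ← h4, ← h5, h6]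
        exact ⟨rfl, rfl⟩
      · intro a ha
        refine ⟨(a, u • a), ?_, rfl⟩
        rw [Finset.mem_bipartiteAbove]
        exact ⟨Finset.mem_offDiag.2 ⟨Finset.mem_univ _, Finset.mem_univ _,
          fun h => (Finset.mem_filter.1 ha).2 h.symm⟩, rfl⟩
    have h4 := Finset.card_filter_add_card_filter_not (s := (Finset.univ : Finset GolayPt))
      (p := fun p => (u : Equiv.Perm GolayPt) p = p)
    have h5 : (Finset.univ : Finset GolayPt).card = 24 := by rw [Finset.card_univ]; decide
    rw [h5] at h4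
    rw [h3]
    by_cases hu1 : u = 1
    · subst hu1
      have : (Finset.univ.filter fun p : GolayPt => ¬ ((1 : M24) : Equiv.Perm GolayPt) p = p).card = 0 := by
        rw [Finset.card_eq_zero, Finset.filter_eq_empty_iff]
        intro p _ h
        exact h rfl
      omega
    · rcases kinds u hu2 hu1 with ⟨hc, hf⟩ | ⟨hc, hf⟩
      · unfold fx at hf
        rw [if_pos hc]
        omega
      · unfold fx at hf
        rw [if_pos hc]
        omega
  have h6 := Finset.sum_le_sum h2
  rw [hb, Finset.sum_add_distrib, ← Finset.sum_filter, ← Finset.sum_filter, Finset.sum_const,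
    Finset.sum_const, smul_eq_mul, smul_eq_mul] at h6
  have h7 : (I.filter fun u => IsConj z u).card ≤ 11385 := by
    rw [← ncard_z, ← Set.ncard_coe_finset]
    refine Set.ncard_le_ncard ?_ (Set.toFinite _)
    intro u hu
    exact (Finset.mem_filter.1 (Finset.mem_coe.1 hu)).2
  have h8 : (I.filter fun u => IsConj w u).card ≤ 31878 := by
    rw [← ncard_w, ← Set.ncard_coe_finset]
    refine Set.ncard_le_ncard ?_ (Set.toFinite _)
    intro u hu
    exact (Finset.mem_filter.1 (Finset.mem_coe.1 hu)).2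
  omega

/-- the same for permutations -/
theorem ncard_swap_perm : {u : Equiv.Perm GolayPt | u ∈ M24 ∧ u * u = 1 ∧ u none = some 0}.ncard ≤ 1716 := by
  refine le_trans ?_ ncard_swap
  have h : {u : Equiv.Perm GolayPt | u ∈ M24 ∧ u * u = 1 ∧ u none = some 0} =
      (fun u : M24 => (u : Equiv.Perm GolayPt)) '' Swp none (some 0) := by
    ext u
    constructor
    · rintro ⟨h1, h2, h3⟩
      exact ⟨⟨u, h1⟩, ⟨Subtype.ext h2, h3⟩, rfl⟩
    · rintro ⟨v, ⟨h2, h3⟩, rfl⟩
      exact ⟨v.2, congrArg Subtype.val h2, h3⟩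
  rw [h]
  exact Set.ncard_image_le (Set.toFinite _)

end Cfsg.Agent.H820.JM
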